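import Groth.Agent.Lib.EtSite.IntegralRefine
import Groth.Agent.Lib.EtSite.PushStalk
import Groth.Agent.Lib.EtSite.Push
import Mathlib.AlgebraicGeometry.Morphisms.QuasiFinite

/-!
Etale neighbourhoods splitting covers of the source of an integral morphism (conditions A, B, C).
-/

set_option autoImplicit false
universe u

open CategoryTheory CategoryTheory.Limits AlgebraicGeometry Opposite

namespace Groth.Agent.Lib.EtPropABC.Basic

open Groth.Agent.Lib.EtSite Groth.Agent.Lib.EtSite.Basic Groth.Agent.Lib.EtSite.DisjointCover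

/-- Points in a fibre of an integral morphism do not specialize. -/
theorem eq_of_specializes {X Y : Scheme.{u}} (f : X ⟶ Y) [IsIntegralHom f] {a b : X}
    (h : a ⤳ b) (hab : f.base a = f.base b) : a = b := by
  obtain ⟨R, B, φ, jR, jB, hint, _, _, ⟨r, hr⟩, sq⟩ := IntegralRefine.exists_chart f (f.base b)
  obtain ⟨z, hz, -⟩ := Scheme.Pullback.exists_preimage_pullback (f := f) (g := jR) b r hr.symm
  have hb : b ∈ Set.range jB.base := ⟨sq.isoPullback.inv.base z, by
    rw [← Scheme.Hom.comp_apply, sq.isoPullback_inv_fst]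
    exact hz⟩
  obtain ⟨pb, rfl⟩ := hb
  obtain ⟨pa, rfl⟩ := h.mem_open jB.isOpenEmbedding.isOpen_range ⟨pb, rfl⟩
  have hle : pa.asIdeal ≤ pb.asIdeal :=
    (PrimeSpectrum.le_iff_specializes pa pb).2
      (jB.isOpenEmbedding.isInducing.specializes_iff.1 h)
  have hc : pa.asIdeal.comap φ.hom = pb.asIdeal.comap φ.hom := by
    refine congrArg PrimeSpectrum.asIdeal
      (jR.isOpenEmbedding.injective ?_ : (Spec.map φ).base pa = (Spec.map φ).base pb)
    rw [← Scheme.Hom.comp_apply, ← Scheme.Hom.comp_apply, ← sq.w]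
    exact hab
  rcases hle.eq_or_lt with he | hlt
  · rw [PrimeSpectrum.ext he]
  · let : Algebra R B := φ.hom.toAlgebra
    have : Algebra.IsIntegral R B := ⟨hint⟩
    exact absurd hc (Ideal.IsIntegral.comap_lt_comap (R := R) hlt).ne

/-- In an etale scheme over `X` every point has an open neighbourhood in which it is alone over its
image. -/
theorem exists_nbhd_unique {X U : Scheme.{u}} (g : U ⟶ X) [Etale g] (u : U) :
    ∃ O : U.Opens, u ∈ O ∧ ∀ u' ∈ O, g.base u' = g.base u → u' = u := by
  have := FieldExt.locallyQuasiFinite_of_etale g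
  obtain ⟨O, hO, hOu⟩ := (isDiscrete_iff_forall_exists_isOpen.1
    (g.isDiscrete_preimage_singleton (g.base u))) u rfl
  refine ⟨⟨O, hO⟩, ?_, fun u' hu' he => ?_⟩
  · have h : u ∈ O ∩ g.base ⁻¹' {g.base u} := hOu.symm ▸ rfl
    exact h.1
  · have h : u' ∈ O ∩ g.base ⁻¹' {g.base u} := ⟨hu', he⟩
    rw [hOu] at h
    exact h

/-- Over an etale neighbourhood of a point of the target of an integral morphism, the source splits
into disjoint open pieces mapping into the members of a family covering the fibre; the pieces at the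
chosen point may be required to land in prescribed open sets. -/
theorem exists_pieces {X Y : Scheme.{u}} (f : X ⟶ Y) [IsIntegralHom f] (y : Y) {ι : Type (u + 1)}
    (U : ι → X.Etale) (A : ι → X.Opens)
    (hcov : ∀ x : X, f.base x = y → ∃ i, x ∈ A i ∧ ∃ t : (U i).left, (U i).hom.base t = x) :
    ∃ (V : Scheme.{u}) (v : V ⟶ Y) (_ : Etale v) (y₀ : V) (n : ℕ)
      (W : Fin n → (pullback f v).Opens) (i : Fin n → ι)
      (h : ∀ j, (W j : Scheme.{u}) ⟶ (U (i j)).left),
      v.base y₀ = y ∧ Pairwise (fun a b => Disjoint (W a) (W b)) ∧ (⨆ j, W j) = ⊤ ∧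
      (∀ j, h j ≫ (U (i j)).hom = (W j).ι ≫ pullback.fst f v) ∧
      ∀ x : X, f.base x = y → ∃ (j : Fin n) (d : (W j : Scheme.{u})),
        x ∈ A (i j) ∧ ((W j).ι ≫ pullback.fst f v).base d = x := by
  classical
  let η := Push.algPoint Y y
  let T : Y.Etale := Scheme.Etale.mk (𝟙 Y)
  obtain ⟨p, hp⟩ := exists_fiber η T y (Push.algPoint_apply Y y default).symm
  have hfp : fiberHom p = η := (Category.comp_id (fiberHom p)).symm.trans (fiberHom_comp p)
  let g : ∀ i, U i ⟶ (EtCoh.bc f).obj T := fun i =>
    MorphismProperty.Over.homMk (pullback.lift ((U i).hom ≫ f) (U i).hom (Category.comp_id _))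
      (pullback.lift_snd _ _ _)
  obtain ⟨V', a, p', -, n, D, o, i, b, hD, hb, hW⟩ :=
    IntegralRefine.exists_refinement f T p U g
      (fun i => {l | (U i).hom.base (l.base default) ∈ A i})
      (fun i l hl => by
        let q : pullback ((g i).left ≫ pullback.fst T.hom f) (fiberHom p) ⟶ (U i).left :=
          pullback.fst _ _
        refine ⟨(q ≫ (U i).hom).base ⁻¹' (A i : Set X), (A i).2.preimage (q ≫ (U i).hom).continuous,
          fun s _ hs => ?_, fun s _ hs => ?_⟩
        · change (U i).hom.base ((s ≫ q).base default) ∈ A i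
          rw [hs]
          exact hl
        · exact hs)
      (fun x hx => by
        let z : X := (pullback.snd T.hom f).base (x.base default)
        have hz : f.base z = y := by
          have e := congrArg (fun q => q.base (x.base default))
            (pullback.condition (f := T.hom) (g := f))
          refine e.symm.trans ?_
          change (x ≫ pullback.fst T.hom f).base default = y
          rw [hx, hfp]
          exact Push.algPoint_apply Y y default
        obtain ⟨k, hk, t, ht⟩ := hcov z hz
        have : Etale (U k).hom := (U k).prop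
        obtain ⟨l, hl, hlt⟩ := Scheme.exists_fac_of_etale_of_isSepClosed (U k).hom
          (x ≫ pullback.snd T.hom f) t ht
        refine ⟨k, l, ?_, pullback.hom_ext ?_ ?_⟩
        · change (U k).hom.base (l.base default) ∈ A k
          rw [hlt, ht]
          exact hk
        · refine (Category.assoc _ _ _).trans ?_
          refine (congrArg (l ≫ ·) (pullback.lift_fst _ _ _)).trans ?_
          rw [← Category.assoc, hl, Category.assoc]
          exact (congrArg (x ≫ ·) (pullback.condition (f := T.hom) (g := f)).symm).trans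
            (congrArg (x ≫ ·) (Category.comp_id _))
        · refine (Category.assoc _ _ _).trans ?_
          exact (congrArg (l ≫ ·) (pullback.lift_snd _ _ _)).trans hl)
  let e : pullback f V'.hom ⟶ pullback V'.hom f := (pullbackSymmetry f V'.hom).hom
  have := fun j => hD.isOpenImmersion j
  let W : Fin n → (pullback f V'.hom).Opens := fun j => e ⁻¹ᵁ (o j).left.opensRange
  have hrange : ∀ j, Set.range ((W j).ι ≫ e).base ⊆ Set.range (o j).left.base := by
    rintro j _ ⟨d, rfl⟩
    exact d.2
  let k : ∀ j, (W j : Scheme.{u}) ⟶ (D j).left := fun j =>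
    IsOpenImmersion.lift (o j).left ((W j).ι ≫ e) (hrange j)
  have hk : ∀ j, k j ≫ (o j).left = (W j).ι ≫ e := fun j => IsOpenImmersion.lift_fac _ _ _
  have hkb : ∀ j, (k j ≫ (b j).left) ≫ (U (i j)).hom = (W j).ι ≫ pullback.fst f V'.hom := by
    intro j
    have hw : (b j).left ≫ (U (i j)).hom = (o j).left ≫ pullback.snd V'.hom f :=
      (Over.w (b j).hom).trans (Over.w (o j).hom).symm
    rw [Category.assoc, hw]
    have hk' := congrArg (· ≫ pullback.snd V'.hom f) (hk j)
    simp only [Category.assoc] at hk'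
    refine hk'.trans ?_
    exact congrArg ((W j).ι ≫ ·) (pullbackSymmetry_hom_comp_snd f V'.hom)
  refine ⟨V'.left, V'.hom, V'.prop, fiberPt p', n, W, i, fun j => k j ≫ (b j).left, ?_, ?_, ?_,
    hkb, ?_⟩
  · exact (hom_fiberPt p').trans (Push.algPoint_apply Y y default)
  · intro c d hcd
    rw [disjoint_iff]
    refine TopologicalSpace.Opens.ext (Set.eq_empty_iff_forall_notMem.2 ?_)
    rintro w ⟨⟨dc, hdc⟩, ⟨dd, hdd⟩⟩
    exact hcd (hD.disjoint c d dc dd (hdc.trans hdd.symm))
  · refine TopologicalSpace.Opens.ext (Set.eq_univ_iff_forall.2 fun w => ?_)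
    obtain ⟨j, d, hd⟩ := hD.exists_eq (e.base w)
    exact TopologicalSpace.Opens.mem_iSup.2 ⟨j, d, hd⟩
  · intro x hx
    obtain ⟨w, hw1, hw2⟩ := Scheme.Pullback.exists_preimage_pullback (f := V'.hom) (g := f)
      (fiberPt p') x (((hom_fiberPt p').trans (Push.algPoint_apply Y y default)).trans hx.symm)
    obtain ⟨ξ, hξ, hξw⟩ := PushStalk.exists_lift_of_isIntegralHom f V' p' w hw1
    obtain ⟨j, l, hl⟩ := hD.exists_fac ξ
    have hwj : (pullbackSymmetry f V'.hom).inv.base w ∈ W j := by
      refine ⟨l.base default, ?_⟩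
      change (l ≫ (o j).left).base default = _
      rw [hl, hξw, ← Scheme.Hom.comp_apply, Iso.inv_hom_id]
      rfl
    refine ⟨j, ⟨_, hwj⟩, ?_, ?_⟩
    · have hl' := hW j l ((Category.assoc _ _ _).symm.trans ((hl =≫ _).trans hξ))
      have hw : (b j).left ≫ (U (i j)).hom = (o j).left ≫ pullback.snd V'.hom f :=
        (Over.w (b j).hom).trans (Over.w (o j).hom).symm
      change ((l ≫ (b j).left) ≫ (U (i j)).hom).base default ∈ A (i j) at hl'
      rw [Category.assoc, hw, ← Category.assoc, hl] at hl'
      change (pullback.snd V'.hom f).base (ξ.base default) ∈ A (i j) at hl'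
      rw [hξw, hw2] at hl'
      exact hl'
    · change (pullback.fst f V'.hom).base ((pullbackSymmetry f V'.hom).inv.base w) = x
      rw [← Scheme.Hom.comp_apply, pullbackSymmetry_inv_comp_fst]
      exact hw2

end Groth.Agent.Lib.EtPropABC.Basic
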