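import Mathlib.AlgebraicGeometry.Limits
import Mathlib.AlgebraicGeometry.Gluing
import Mathlib.AlgebraicGeometry.PullbackCarrier
import Mathlib.AlgebraicGeometry.Restrict

/-!
Morphisms out of a scheme covered by disjoint open subschemes.
-/

set_option autoImplicit false
universe u

open CategoryTheory CategoryTheory.Limits AlgebraicGeometry

namespace Groth.Agent.Lib.EtPropABC.Glue

theorem exists_glue {P T : Scheme.{u}} {σ : Type u} (W : σ → P.Opens)
    (hd : Pairwise fun a b => Disjoint (W a) (W b)) (hsup : (⨆ a, W a) = ⊤)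
    (k : ∀ a, (W a : Scheme.{u}) ⟶ T) : ∃ h : P ⟶ T, ∀ a, (W a).ι ≫ h = k a := by
  let 𝒰 : P.OpenCover := P.openCoverOfIsOpenCover W (TopologicalSpace.IsOpenCover.mk hsup)
  have hf : ∀ a b : σ, pullback.fst (W a).ι (W b).ι ≫ k a = pullback.snd (W a).ι (W b).ι ≫ k b := by
    intro a b
    by_cases hab : a = b
    · subst hab
      have : pullback.fst (W a).ι (W a).ι = pullback.snd (W a).ι (W a).ι :=
        (cancel_mono (W a).ι).1 pullback.condition
      rw [this]
    · have : IsEmpty ↥(pullback (W a).ι (W b).ι) := ⟨fun z => by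
        have e := congrArg (fun q => q.base z) (pullback.condition (f := (W a).ι) (g := (W b).ι))
        have h1 : (W a).ι.base ((pullback.fst (W a).ι (W b).ι).base z) ∈ W a :=
          ((pullback.fst (W a).ι (W b).ι).base z).2
        have h2 : (W a).ι.base ((pullback.fst (W a).ι (W b).ι).base z) ∈ W b :=
          (e : _ = _) ▸ ((pullback.snd (W a).ι (W b).ι).base z).2
        exact (Set.disjoint_left.1 (TopologicalSpace.Opens.coe_disjoint.2 (hd hab))) h1 h2⟩
      exact isInitialOfIsEmpty.hom_ext _ _
  exact ⟨𝒰.glueMorphisms k hf, fun a => 𝒰.ι_glueMorphisms k hf a⟩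

end Groth.Agent.Lib.EtPropABC.Glue
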